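import Groth.Agent.DualLftLib.Lft
import Groth.Agent.DualLftLib.Sep
import Groth.Agent.AVBiextLib.Lambda
import Groth.Agent.AVIndexLib.RelVanish
import Groth.Agent.AVIndexLib.MumfordMain
import Groth.Agent.TateThmLib.Poincare
import Groth.Agent.PicCurveLib.Field
import Groth.Prelude.Def_RelProj

/-!
The degree of the map to the dual attached to a relatively ample class.
-/

set_option autoImplicit false
set_option maxHeartbeats 1600000
set_option maxRecDepth 8000
set_option backward.isDefEq.respectTransparency false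
set_option linter.style.haveILetI false
set_option linter.unusedSectionVars false

noncomputable section

universe u

open CategoryTheory CategoryTheory.Limits MonoidalCategory CartesianMonoidalCategory MonObj AlgebraicGeometry
open CubeConsLib AVBiextLib AVIndexLib

namespace DualLftLib

theorem isPullback_map {S T : Scheme.{u}} {X Y : Over S} (f : X ⟶ Y) (t : T ⟶ S) :
    IsPullback (pullback.fst X.hom t) ((Over.pullback t).map f).left f.left (pullback.fst Y.hom t) := by
  refine IsPullback.of_bot ?_ (pullback.lift_fst _ _ _).symm (IsPullback.of_hasPullback Y.hom t)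
  rw [Over.w f, show ((Over.pullback t).map f).left ≫ pullback.snd Y.hom t = pullback.snd X.hom t from
    pullback.lift_snd _ _ _]
  exact IsPullback.of_hasPullback X.hom t

variable {S : Scheme.{u}} (A At : Over S) [GrpObj A] [IsProper A.hom] [Smooth A.hom] [GeometricallyConnected A.hom]
  [GrpObj At] (φ : AgPol.DualMap A At) (hdual : AbDual.IsDualAV Scheme.fppfPrecoverage A At φ)
  (L : A.left.Modules) (hL : PicF.IsInvertible L) (hample : RelAmple.IsRelAmple A.hom L) (lam : A ⟶ At)
  (hlam : AgPol.IsLambda A At φ L lam)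

include hdual hL hlam in
/-- The base change of the map to the dual is the map of the base changed class. -/
theorem exists_fibre_mumford {Ω : Type u} [Field Ω] (ξ : Spec (CommRingCat.of Ω) ⟶ S) :
    ∃ (hL' : PicF.IsInvertible (show (Red.bc ξ A).left.Modules from
        (Scheme.Modules.pullback (pullback.fst A.hom ξ)).obj L))
      (N : (PicF.XT (Red.bc ξ A).hom (Red.bc ξ A)).Modules) (hN : PicF.IsInvertible N),
      (clA hN : PicA (Red.bc ξ A ⊗ Red.bc ξ A).left) = CubeConsLib.lam hL' (fst _ _) (snd _ _) ∧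
        AgPol.bcDual ξ A At φ (Red.bc ξ A) (PicF.cl N) = (Over.pullback ξ).map lam := by
  haveI := AbSchLib.geometricallyReduced_of_smooth A.hom
  haveI := CubeConsLib.geometricallyIntegral_of_group A
  obtain ⟨N, hN, hiso, hφ⟩ := hlam
  have cN : (clA hN : PicA (A ⊗ A).left) = P hL (fst A A * snd A A) - P hL (fst A A) - P hL (snd A A) := by
    have g0 : PicF.IsInvertible (show (A ⊗ A).left.Modules from N) := hN
    have g1 := AmpleDevLib.isInvertible_pb (fst A A).left hL
    have g2 := AmpleDevLib.isInvertible_pb (snd A A).left hL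
    have g3 := AmpleDevLib.isInvertible_pb (μ[A] : A ⊗ A ⟶ A).left hL
    unfold AgPol.IsLambdaSheaf at hiso
    have e := (clA_eq_iff (HilbPolyLib.isInvertible_tensor (HilbPolyLib.isInvertible_tensor g0 g1) g2) g3).2 hiso
    rw [clA_tensor (HilbPolyLib.isInvertible_tensor g0 g1) g2, clA_tensor g0 g1, ← pullA_clA _ hL,
      ← pullA_clA _ hL, ← pullA_clA _ hL,
      show μ[A] = fst A A * snd A A by rw [Hom.mul_def, lift_fst_snd, Category.id_comp]] at e
    show clA g0 = _
    rw [P, P, P, ← e]
    abel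
  have hev : ∀ {V : Over S} (x y : V ⟶ A),
      ev2 (clA hN : PicA (A ⊗ A).left) x y = P hL (x * y) - P hL x - P hL y := fun x y => by
    rw [ev2, cN, map_sub, map_sub, pullA_P, pullA_P, pullA_P, MonObj.comp_mul, lift_fst, lift_snd]
  have hbc : ∀ {K : Type u} [Field K] (t : Spec (CommRingCat.of K) ⟶ S),
      bc2 t (clA hN : PicA (A ⊗ A).left) = CubeConsLib.lam
        (AmpleDevLib.isInvertible_pb (pullback.fst A.hom t) hL : PicF.IsInvertible (show (Red.bc t A).left.Modules from
          (Scheme.Modules.pullback (pullback.fst A.hom t)).obj L)) (fst _ _) (snd _ _) := fun t => by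
    rw [← ev2_id (bc2 t _), ev2_bc2, hev, ← toDn_mul, CubeConsLib.lam, P, P, P, P, P, P, ← pullA_clA _ hL,
      pullA_comp, pullA_comp, pullA_comp, toDn_left, toDn_left, toDn_left]
    rfl
  have hN0 : AbDual.IsPicZeroCl A.hom A (PicF.cl N) := by
    refine isPicZeroCl_of_geometric hN fun K _ _ t => ?_
    haveI : IsProper (Red.bc t A).hom := MorphismProperty.pullback_snd (P := @IsProper) _ _ ‹_›
    haveI : GeometricallyIntegral (Red.bc t A).hom :=
      inferInstanceAs (GeometricallyIntegral (Limits.pullback.snd A.hom t))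
    exact isPicZeroCl_mumford (AmpleDevLib.isInvertible_pb (pullback.fst A.hom t) hL)
      (hΛ := AmpleDevLib.isInvertible_pb (p2 t A).left hN) ((pullA_clA _ hN).symm.trans (hbc t))
  refine ⟨AmpleDevLib.isInvertible_pb _ hL, _, AmpleDevLib.isInvertible_pb (p2 ξ A).left hN,
    (pullA_clA _ hN).symm.trans (hbc ξ), ?_⟩
  rw [toDn_phi_bc2 ξ hdual hN0, hφ]

include hdual hL hample hlam in
/-- On geometric fibres the map to the dual is an isogeny. -/
theorem geometric_fibre (Ω : Type u) [Field Ω] [IsAlgClosed Ω] (ξ : Spec (CommRingCat.of Ω) ⟶ S) :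
    IsFinite ((Over.pullback ξ).map lam).left ∧ Surjective ((Over.pullback ξ).map lam).left ∧
      Flat ((Over.pullback ξ).map lam).left := by
  haveI := AbSchLib.geometricallyReduced_of_smooth A.hom
  haveI := CubeConsLib.geometricallyIntegral_of_group A
  haveI : IsProper (Red.bc ξ A).hom := inferInstanceAs (IsProper (pullback.snd A.hom ξ))
  haveI : GeometricallyIntegral (Red.bc ξ A).hom := inferInstanceAs (GeometricallyIntegral (pullback.snd A.hom ξ))
  obtain ⟨hL', N, hN, cN, hφ⟩ := exists_fibre_mumford A At φ hdual L hL lam hlam ξ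
  have hA' := isDualAV_bcDual ξ hdual
  obtain ⟨hp, hi⟩ := TateThmLib.dual_av hA'
  haveI := hp
  haveI := hi
  have hLa : CohB1.IsAmple (show (Red.bc ξ A).left.Modules from
      (Scheme.Modules.pullback (pullback.fst A.hom ξ)).obj L) :=
    (MiscFlat6.isRelAmple_iff_isAmple (pullback.snd A.hom ξ) _).1
      (MiscFlat6.isRelAmple_baseChange A.hom ξ hample)
  obtain ⟨-, hf, hs, hfl⟩ := isogeny_phiL hA' hL' hLa hN cN
  rw [hφ] at hf hs hfl
  exact ⟨hf, hs, hfl⟩

include hdual hL hample hlam in
/-- The degree on a geometric fibre is the square of the rank of the direct image. -/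
theorem finrank_fibre [IsLocallyNoetherian S] (r : ℕ)
    (hr : FlatMod.IsFinLocFreeOfRank r ((Coh.push A.hom).obj L)) {Ω : Type u} [Field Ω] [IsAlgClosed Ω]
    (ξ : Spec (CommRingCat.of Ω) ⟶ S) (x : (Red.bc ξ At).left) :
    ((Over.pullback ξ).map lam).left.finrank x = r ^ 2 := by
  haveI := AbSchLib.geometricallyReduced_of_smooth A.hom
  haveI := CubeConsLib.geometricallyIntegral_of_group A
  haveI : IsProper (Red.bc ξ A).hom := inferInstanceAs (IsProper (pullback.snd A.hom ξ))
  haveI : GeometricallyIntegral (Red.bc ξ A).hom := inferInstanceAs (GeometricallyIntegral (pullback.snd A.hom ξ))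
  obtain ⟨hL', N, hN, cN, hφ⟩ := exists_fibre_mumford A At φ hdual L hL lam hlam ξ
  have hA' := isDualAV_bcDual ξ hdual
  obtain ⟨hp, hi⟩ := TateThmLib.dual_av hA'
  haveI := hp
  haveI := hi
  let L' : (Red.bc ξ A).left.Modules := (Scheme.Modules.pullback (pullback.fst A.hom ξ)).obj L
  have hLa : CohB1.IsAmple L' :=
    (MiscFlat6.isRelAmple_iff_isAmple (pullback.snd A.hom ξ) _).1
      (MiscFlat6.isRelAmple_baseChange A.hom ξ hample)
  obtain ⟨hm, hf, hs, hfl⟩ := isogeny_phiL hA' hL' hLa hN cN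
  haveI := hm
  haveI := hf
  haveI := hfl
  haveI : IsCommMonObj (Red.bc ξ A) := isCommMonObj_field
  obtain ⟨g, hg⟩ := AVAmpleLib.exists_dim_field (Red.bc ξ A)
  have hL'' := MiscFlat6.dual_isInvertible hL'
  have hg0 : PicF.IsInvertible (show (Red.bc ξ A ⊗ Red.bc ξ A).left.Modules from N) := hN
  have g3 := AmpleDevLib.isInvertible_pb (μ[Red.bc ξ A]).left hL'
  have g1 := AmpleDevLib.isInvertible_pb (fst (Red.bc ξ A) (Red.bc ξ A)).left hL''
  have g2 := AmpleDevLib.isInvertible_pb (snd (Red.bc ξ A) (Red.bc ξ A)).left hL''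
  obtain ⟨i, -, hconc, hsq⟩ := mumford_main hA' (L := L') (L' := MiscFlat6.dual L') hg hL'
    (MiscFlat6.nonempty_dualIso hL') (Λ := N)
    ((clA_eq_iff hg0 (HilbPolyLib.isInvertible_tensor (HilbPolyLib.isInvertible_tensor g3 g1) g2)).1 (by
      rw [clA_tensor (HilbPolyLib.isInvertible_tensor g3 g1) g2, clA_tensor g3 g1, ← pullA_clA _ hL',
        ← pullA_clA _ hL'', ← pullA_clA _ hL'', clA_dual hL', map_neg, map_neg, ← sub_eq_add_neg, ← sub_eq_add_neg]
      refine cN.trans ?_
      rw [CubeConsLib.lam, Hom.mul_def, lift_fst_snd, Category.id_comp]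
      rfl))
    (isPicZeroCl_mumford hL' cN)
    (fun y => AVAmpleLib.finrank_const (AgPol.bcDual ξ A At φ (Red.bc ξ A) (PicF.cl N)) y x)
  rw [hφ] at hsq
  have hvan : ∀ n, n ≠ 0 → Subsingleton (Coh.HH (Red.bc ξ A).left L' n) := fun n hn =>
    subsingleton_HH_of_isAmple hLa (Nat.pos_of_ne_zero hn)
  letI : (Red.bc ξ A).left.Over (Spec (CommRingCat.of Ω)) := ⟨(Red.bc ξ A).hom⟩
  haveI : IsProper ((Red.bc ξ A).left ↘ Spec (CommRingCat.of Ω)) := ‹IsProper (Red.bc ξ A).hom›
  rw [euler_of_concentrated (k := Ω) hvan, pow_zero, _root_.one_mul] at hsq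
  -- the sections of the fibre
  let pt : Spec (CommRingCat.of Ω) := IsLocalRing.closedPoint Ω
  have h1 := PicCurveLib.fiberRank_spec_mod (pullback.snd A.hom ξ) hL' 0 pt
  have h2 := PicCurveLib.fiberRank_bc (IsPullback.of_hasPullback A.hom ξ) hL pt 0
  obtain ⟨U, hU, eU⟩ := (rpush_of_relAmple A hL hample).2 (ξ pt)
  obtain ⟨V, hV, eV⟩ := hr (ξ pt)
  have h3 : CohIII.fiberRank A.hom L 0 (ξ pt) = r := CohCmpLib.rank_unique _ hU hV eU eV
  have h4 : @Module.finrank Ω (Coh.HH (Red.bc ξ A).left L' 0) _ _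
      (letI : (Red.bc ξ A).left.Over (Spec (CommRingCat.of Ω)) := ⟨(Red.bc ξ A).hom⟩; inferInstance) = r := by
    rw [← h3, ← h2]
    exact h1.symm
  rw [h4] at hsq
  exact_mod_cast hsq.symm

end DualLftLib

end
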