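import Groth.Agent.DualLftLib.PicZeroOpen
import Groth.Agent.PicRepLib.Lft
import Groth.Agent.AbSchLib.Flat

/-!
A scheme representing the Picard functor of algebraically trivial classes of an abelian scheme is locally of finite type.
-/

set_option autoImplicit false
set_option maxHeartbeats 1600000
set_option maxRecDepth 8000
set_option backward.isDefEq.respectTransparency false
set_option linter.style.haveILetI false
set_option linter.unusedSectionVars false

noncomputable section

universe u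

open CategoryTheory CategoryTheory.Limits AlgebraicGeometry TopologicalSpace Opposite RichLib.LimBC
open KFlatLib (pb)

namespace DualLftLib

variable {S : Scheme.{u}}

theorem XTmap_comp' {X : Scheme.{u}} (f : X ⟶ S) {T T' T'' : Over S} (g' : T'' ⟶ T') (g : T' ⟶ T) :
    PicF.XTmap f (g' ≫ g) = PicF.XTmap f g' ≫ PicF.XTmap f g := by
  apply pullback.hom_ext <;> simp [PicF.XTmap]

theorem isPullback_XTmap' {X : Scheme.{u}} (f : X ⟶ S) {T T' : Over S} (g : T' ⟶ T) :
    IsPullback (PicF.XTmap f g) (PicF.XTproj f T') (PicF.XTproj f T) g.left := by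
  refine IsPullback.of_right ?_ (pullback.lift_snd _ _ _) (IsPullback.of_hasPullback f T.hom)
  rw [PicRelBCLib.XTmap_fst, Over.w g]
  exact IsPullback.of_hasPullback f T'.hom

variable {A At : Over S} [GrpObj A] [IsProper A.hom] [Smooth A.hom] [GeometricallyConnected A.hom]
  {φ : ∀ T : Over S, PicF.Cl (PicF.XT A.hom T) → (T ⟶ At)}

/-- An algebraically trivial point factors through a stage of any system. -/
theorem exists_factor (hP : AbDual.IsRelPicZeroK Scheme.fppfPrecoverage A.hom At φ)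
    {V : S.Opens} (hV : IsAffineOpen V) {I : Type u} [SmallCategory I] [IsCofiltered I] (Y : Sys I V.toScheme)
    (c : PicF.Cl (PicF.XT A.hom (Over.mk (Y.s ≫ V.ι))))
    (hc : AbDual.IsPicZeroCl A.hom (Over.mk (Y.s ≫ V.ι)) c) :
    ∃ (i : I) (v : Y.D.obj i ⟶ At.left), v ≫ At.hom = Y.t i ≫ V.ι ∧
      Y.c.π.app i ≫ v = (φ (Over.mk (Y.s ≫ V.ι)) c).left := by
  haveI : IsAffine V.toScheme := hV
  let f := A.hom
  let B := RichLib.LimBC.pb Y (pullback.snd f V.ι)
  haveI : CompactSpace ↥(pullback f V.ι) := QuasiCompact.compactSpace_of_compactSpace (pullback.snd f V.ι)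
  haveI : QuasiSeparatedSpace ↥(pullback f V.ι) := quasiSeparatedSpace_of_quasiSeparated (pullback.snd f V.ι)
  let T : Over S := Over.mk (Y.s ≫ V.ι)
  let e : B.c.pt ≅ PicF.XT f T := pullbackLeftPullbackSndIso f V.ι Y.s
  obtain ⟨M, rfl, hM, hMa⟩ := hc
  obtain ⟨i, Mi, hMi, ⟨ei⟩⟩ := PicRepLib.exists_invertible_stage B (AmpleDevLib.isInvertible_pb e.hom hM)
  let Ti : Over S := Over.mk (Y.t i ≫ V.ι)
  let eTi : B.D.obj i ≅ PicF.XT f Ti := pullbackLeftPullbackSndIso f V.ι (Y.t i)
  let g : T ⟶ Ti := Over.homMk (Y.c.π.app i) (Y.hs_assoc i _)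
  have hnat : PicF.XTmap f g ≫ eTi.inv = e.inv ≫ B.c.π.app i := by
    rw [Iso.eq_inv_comp, ← Category.assoc, Iso.comp_inv_eq]
    apply pullback.hom_ext
    · rw [Category.assoc, Category.assoc, PicRelBCLib.XTmap_fst]
      refine (pullbackLeftPullbackSndIso_hom_fst f V.ι Y.s).trans ?_
      refine Eq.trans ?_ (congrArg (B.c.π.app i ≫ ·) (pullbackLeftPullbackSndIso_hom_fst f V.ι (Y.t i))).symm
      exact (pbπ_fst_assoc Y (pullback.snd f V.ι) i _).symm
    · rw [Category.assoc, Category.assoc, PicRelBCLib.XTmap_snd]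
      refine (pullbackLeftPullbackSndIso_hom_snd_assoc f V.ι Y.s _).trans ?_
      refine Eq.trans ?_ (congrArg (B.c.π.app i ≫ ·) (pullbackLeftPullbackSndIso_hom_snd f V.ι (Y.t i))).symm
      exact (pbπ_snd Y (pullback.snd f V.ι) i).symm
  let Mi' : (PicF.XT f Ti).Modules := pb eTi.inv Mi
  have hMi' : PicF.IsInvertible Mi' := AmpleDevLib.isInvertible_pb _ hMi
  let eM : (Scheme.Modules.pullback (PicF.XTmap f g)).obj Mi' ≅ M :=
    (Scheme.Modules.pullbackComp _ _).app Mi ≪≫ (Scheme.Modules.pullbackCongr hnat).app Mi ≪≫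
      ((Scheme.Modules.pullbackComp _ _).app Mi).symm ≪≫ (Scheme.Modules.pullback e.inv).mapIso ei ≪≫
      (Scheme.Modules.pullbackComp _ _).app M ≪≫ (Scheme.Modules.pullbackCongr e.inv_hom_id).app M ≪≫
      (Scheme.Modules.pullbackId _).app M
  -- the neighbourhood of the image
  let A' : Over Ti.left := Red.bc Ti.hom A
  letI : GrpObj A' := Functor.grpObjObj
  haveI : IsProper A'.hom := inferInstanceAs (IsProper (pullback.snd A.hom Ti.hom))
  haveI : Smooth A'.hom := inferInstanceAs (Smooth (pullback.snd A.hom Ti.hom))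
  haveI : GeometricallyConnected A'.hom := inferInstanceAs (GeometricallyConnected (pullback.snd A.hom Ti.hom))
  haveI := AbSchLib.geometricallyReduced_of_smooth A'.hom
  haveI := CubeConsLib.geometricallyIntegral_of_group A'
  let q := PicF.XTproj f T
  let qi := PicF.XTproj f Ti
  let Good : Set Ti.left.Opens := {W | ∀ y ∈ W, AbDual.IsAlgTrivialAt qi Mi' y}
  let O : Ti.left.Opens := sSup Good
  have hO : ∀ y ∈ O, AbDual.IsAlgTrivialAt qi Mi' y := fun y hy => by
    obtain ⟨W, hW, hyW⟩ := Opens.mem_sSup.1 hy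
    exact hW y hyW
  have hpre : (Y.c.π.app i) ⁻¹ᵁ O = ⊤ := top_le_iff.1 fun z _ => by
    let Ω := AlgebraicClosure (T.left.residueField z)
    let σ' : Spec (CommRingCat.of Ω) ⟶ T.left :=
      Spec.map (CommRingCat.ofHom (algebraMap (T.left.residueField z) Ω)) ≫ T.left.fromSpecResidueField z
    have hz : σ' (IsLocalRing.closedPoint Ω) = z := by
      rw [Scheme.Hom.comp_apply]
      exact Scheme.fromSpecResidueField_apply _ _
    have hσ : Set.range σ'.base = {z} := by
      ext x
      exact ⟨fun ⟨p, hp⟩ => hp ▸ (congrArg σ'.base (Subsingleton.elim (α := PrimeSpectrum Ω) p _)).trans hz,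
        fun hx => ⟨IsLocalRing.closedPoint Ω, hz.trans hx.symm⟩⟩
    let t : Spec (CommRingCat.of Ω) ⟶ Ti.left := σ' ≫ g.left
    let sq := (IsPullback.of_hasPullback q σ').paste_horiz (isPullback_XTmap' f g)
    let j : pullback qi t ⟶ pullback q σ' := sq.isoPullback.inv
    have hj : j ≫ pullback.fst q σ' ≫ PicF.XTmap f g = pullback.fst qi t := sq.isoPullback_inv_fst
    have h2 := CubeConsLib.isAlgEquivZero_pullback (pullback.snd q σ') (pullback.snd qi t) j
      sq.isoPullback_inv_snd (hMa z Ω σ' hσ)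
    have h3 := @CubeConsLib.isAlgEquivZero_iso Ω _ _ ⟨pullback.snd qi t⟩ _ _
      ((Scheme.Modules.pullback j).mapIso ((Scheme.Modules.pullback (pullback.fst q σ')).mapIso eM.symm ≪≫
        (Scheme.Modules.pullbackComp _ _).app Mi') ≪≫ (Scheme.Modules.pullbackComp j _).app Mi' ≪≫
        (Scheme.Modules.pullbackCongr hj).app Mi') h2
    obtain ⟨W, htW, hW⟩ := exists_nhd_algTrivial (A := A') (M := Mi') hMi' t h3
    refine Opens.mem_sSup.2 ⟨W, hW, ?_⟩
    rw [← hz]
    exact htW
  haveI : ∀ {i j : I} (a : i ⟶ j), IsAffineHom (Y.D.map a) := fun a => Y.affine_map a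
  haveI : ∀ k, CompactSpace (Y.D.obj k) := fun k => Y.compactSpace_obj k
  obtain ⟨k, a, hk⟩ := exists_map_eq_top Y.D Y.c Y.hc O hpre
  let Tk : Over S := Over.mk (Y.t k ≫ V.ι)
  let gk : T ⟶ Tk := Over.homMk (Y.c.π.app k) (Y.hs_assoc k _)
  let gki : Tk ⟶ Ti := Over.homMk (Y.D.map a) (Y.w_assoc a _)
  have hg : gk ≫ gki = g := Over.OverMorphism.ext (Y.c.w a)
  have hd : AbDual.IsPicZeroCl f Tk (PicF.pullCl (PicF.XTmap f gki) (PicF.cl Mi')) :=
    ⟨_, rfl, AmpleDevLib.isInvertible_pb _ hMi', fun y => CubeConsLib.isAlgTrivialAt_pullback _ _ _ gki.left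
      (PicRelBCLib.XTmap_snd f gki) y (hO _ (hk.ge (Set.mem_univ y)))⟩
  refine ⟨k, (φ Tk (PicF.pullCl (PicF.XTmap f gki) (PicF.cl Mi'))).left, Over.w _, ?_⟩
  have h1 := hP.natural Tk T gk _ hd
  rw [PicRelBCLib.pullCl_pullCl, ← XTmap_comp' f, hg,
    show PicF.pullCl (PicF.XTmap f g) (PicF.cl Mi') = PicF.cl M from Quot.sound ⟨eM⟩] at h1
  exact (congrArg CommaMorphism.left h1).symm

/-- A scheme representing the functor of algebraically trivial classes is locally of finite type. -/
theorem locallyOfFiniteType (hP : AbDual.IsRelPicZeroK Scheme.fppfPrecoverage A.hom At φ) :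
    LocallyOfFiniteType At.hom := by
  obtain ⟨R, hR, hc⟩ := hP.locallySurjective At (𝟙 At)
  choose U u x hu hx using fun z : At.left => CubeConsLib.exists_mem_fppf hR z
  have hfu : ∀ z, Flat (u z) ∧ LocallyOfFinitePresentation (u z) := fun z => hR.2 (hu z)
  have hi : ∀ z, LocallyOfFiniteType (u z ≫ At.hom) := fun z => by
    haveI := (hfu z).1
    haveI := (hfu z).2
    refine (HasRingHomProperty.iff_appLE (P := @LocallyOfFiniteType)).2 fun ⟨V, hV'⟩ ⟨W, hW⟩ hWV => ?_
    let h := u z ≫ At.hom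
    let L := Γ(U z, W)
    let ψ : Γ(S, V) ⟶ L := h.appLE V W hWV
    let Y := ConsLib.homSys ψ hV'.isoSpec
    have hs : Y.s ≫ V.ι = hW.fromSpec ≫ h := by
      show (Spec.map ψ ≫ hV'.isoSpec.inv) ≫ V.ι = _
      rw [Category.assoc, hV'.isoSpec_inv_ι]
      exact (IsAffineOpen.SpecMap_appLE_fromSpec h hV' hW hWV)
    obtain ⟨c, hci, hcφ⟩ := hc (u z) (hu z)
    let T : Over S := Over.mk (Y.s ≫ V.ι)
    let g : T ⟶ AbDual.ovr At (u z) := Over.homMk hW.fromSpec hs.symm
    obtain ⟨j, v, hv, hπv⟩ := exists_factor hP hV' Y _ (CubeConsLib.isPicZeroCl_XTmap g hci)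
    have hnat : (φ T (PicF.pullCl (PicF.XTmap A.hom g) c)).left = hW.fromSpec ≫ u z := by
      rw [hP.natural _ _ g c hci, hcφ, Category.comp_id]
      rfl
    rw [hnat] at hπv
    haveI : LocallyOfFiniteType (Y.c.π.app j ≫ v) := by
      rw [hπv]
      haveI : IsOpenImmersion hW.fromSpec := hW.isOpenImmersion_fromSpec
      exact MorphismProperty.comp_mem _ _ _ (inferInstanceAs (LocallyOfFiniteType hW.fromSpec)) inferInstance
    haveI : LocallyOfFiniteType (Y.c.π.app j) := locallyOfFiniteType_of_comp _ v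
    haveI : LocallyOfFiniteType (Y.t j) := ConsLib.homSys_lft ψ hV'.isoSpec j
    have h3 : LocallyOfFiniteType Y.s := by rw [← Y.hs j]; infer_instance
    have h4 : LocallyOfFiniteType (Spec.map ψ) := by
      have e : Spec.map ψ = Y.s ≫ hV'.isoSpec.hom := by
        show Spec.map ψ = (Spec.map ψ ≫ hV'.isoSpec.inv) ≫ hV'.isoSpec.hom
        rw [Category.assoc, Iso.inv_hom_id, Category.comp_id]
      rw [e]
      exact MorphismProperty.comp_mem _ _ _ h3 inferInstance
    exact (HasRingHomProperty.Spec_iff (P := @LocallyOfFiniteType)).1 h4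
  let p := Sigma.desc u
  haveI : Flat p := IsZariskiLocalAtSource.sigmaDesc (P := @Flat) fun z => (hfu z).1
  haveI : LocallyOfFinitePresentation p :=
    IsZariskiLocalAtSource.sigmaDesc (P := @LocallyOfFinitePresentation) fun z => (hfu z).2
  haveI : Surjective p := ⟨fun y => by
    refine ⟨(Sigma.ι U y) (x y), ?_⟩
    rw [← Scheme.Hom.comp_apply, Sigma.ι_desc]
    exact hx y⟩
  haveI : LocallyOfFiniteType (p ≫ At.hom) := by
    have e : p ≫ At.hom = Sigma.desc fun z => u z ≫ At.hom := Sigma.hom_ext _ _ fun z => by simp [p]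
    rw [e]
    exact IsZariskiLocalAtSource.sigmaDesc (P := @LocallyOfFiniteType) hi
  exact Groth.Agent.S5938.result p At.hom

end DualLftLib

end
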