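import Groth.Agent.AVBiextLib.Rigid
import Groth.Agent.AVVanishLib.Transpose
import Groth.Agent.AVAmpleLib.RelMul
import Groth.Agent.CubeConsLib.GeomInt

/-!
Algebraic triviality of a line bundle on the fibres of an abelian scheme spreads to a neighbourhood.
-/

set_option autoImplicit false
set_option maxHeartbeats 1600000
set_option maxRecDepth 8000
set_option backward.isDefEq.respectTransparency false
set_option linter.style.haveILetI false
set_option linter.unusedSectionVars false

noncomputable section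

universe u

open CategoryTheory CategoryTheory.Limits MonoidalCategory CartesianMonoidalCategory MonObj AlgebraicGeometry
open CubeConsLib AVIndexLib AVBiextLib

namespace DualLftLib

section Field

variable {K : Type u} [Field K] [IsAlgClosed K] {A : Over (Spec (CommRingCat.of K))} [GrpObj A]
  [IsProper A.hom] [GeometricallyIntegral A.hom] {M : A.left.Modules}

/-- An additive class is algebraically equivalent to zero. -/
theorem isAlgEquivZero_of_isAdditive {hM : PicF.IsInvertible M} (h : IsAdditive hM) :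
    Pic13.IsAlgEquivZero K A.left M := by
  obtain ⟨L, hLa⟩ := AVAmpleLib.exists_ample A
  obtain ⟨a, ha⟩ := AVVanishLib.exists_phi_eq h (AVAmpleLib.finite_translationFixing hLa.1 hLa)
  exact AVVanishLib.isAlgEquivZero_phi a hM ha

end Field

variable {S : Scheme.{u}} {A : Over S} [GrpObj A] [IsProper A.hom] [Flat A.hom]
  [LocallyOfFinitePresentation A.hom] [GeometricallyIntegral A.hom] {M : A.left.Modules}

/-- Near a geometric point where a class is algebraically trivial it is algebraically trivial on all fibres. -/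
theorem exists_nhd_algTrivial (hM : PicF.IsInvertible M) {Ω : Type u} [Field Ω] [IsAlgClosed Ω]
    (t : Spec (CommRingCat.of Ω) ⟶ S)
    (h : @Pic13.IsAlgEquivZero Ω _ (pullback A.hom t) ⟨pullback.snd A.hom t⟩
      ((Scheme.Modules.pullback (pullback.fst A.hom t)).obj M)) :
    ∃ W : S.Opens, t (IsLocalRing.closedPoint Ω) ∈ W ∧ ∀ y ∈ W, AbDual.IsAlgTrivialAt A.hom M y := by
  let m := fst A A * snd A A
  have h0 := AmpleDevLib.isInvertible_pb m.left hM
  have h1 := AmpleDevLib.isInvertible_pb (fst A A).left hM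
  have h2 := AmpleDevLib.isInvertible_pb (snd A A).left hM
  have h3 := AmpleDevLib.isInvertible_pb (1 : A ⊗ A ⟶ A).left hM
  have hD := HilbPolyLib.isInvertible_tensor (HilbPolyLib.isInvertible_tensor h0 (MiscFlat6.dual_isInvertible
    (HilbPolyLib.isInvertible_tensor h1 h2))) h3
  have cD : clA hD = P hM m - P hM (fst A A) - P hM (snd A A) + P hM (1 : A ⊗ A ⟶ A) := by
    rw [clA_tensor (HilbPolyLib.isInvertible_tensor h0 (MiscFlat6.dual_isInvertible
      (HilbPolyLib.isInvertible_tensor h1 h2))) h3, clA_tensor h0 (MiscFlat6.dual_isInvertible (HilbPolyLib.isInvertible_tensor h1 h2)), clA_dual (HilbPolyLib.isInvertible_tensor h1 h2), clA_tensor h1 h2,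
      P_eq hM, P_eq hM, P_eq hM, P_eq hM]
    abel
  have hev : ∀ {V : Over S} (x y : V ⟶ A),
      ev2 (clA hD) x y = P hM (x * y) - P hM x - P hM y + P hM 1 := fun x y => by
    rw [cD, ev2, map_add, map_sub, map_sub, pullA_P, pullA_P, pullA_P, pullA_P, MonObj.comp_mul, lift_fst, lift_snd,
      MonObj.comp_one]
  have hbc : ∀ {L : Type u} [Field L] (σ : Spec (CommRingCat.of L) ⟶ S)
      (hM' : PicF.IsInvertible (show (Red.bc σ A).left.Modules from
        (Scheme.Modules.pullback (pullback.fst A.hom σ)).obj M)),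
      bc2 σ (clA hD) = P hM' (fst (Red.bc σ A) (Red.bc σ A) * snd _ _) - P hM' (fst _ _) - P hM' (snd _ _) := by
    intro L _ σ hM'
    have hPt : ∀ {V : Over (Spec (CommRingCat.of L))} (x : V ⟶ Red.bc σ A), P hM' x = P hM (toDn σ x) := fun x => by
      rw [P, P, ← pullA_clA _ hM, pullA_comp, toDn_left]
      rfl
    haveI : IsProper (Red.bc σ A).hom := inferInstanceAs (IsProper (pullback.snd A.hom σ))
    haveI : GeometricallyIntegral (Red.bc σ A).hom :=
      inferInstanceAs (GeometricallyIntegral (pullback.snd A.hom σ))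
    rw [← ev2_id (bc2 σ _), ev2_bc2, hev, ← toDn_mul, ← hPt, ← hPt, ← hPt, ← toDn_one σ, ← hPt, P_zero, add_zero]
  have hax1 : ev2 (clA hD) (𝟙 A) 1 = 0 := by rw [hev, _root_.mul_one]; abel
  have hax2 : ev2 (clA hD) 1 (𝟙 A) = 0 := by rw [hev, _root_.one_mul]; abel
  haveI : IsProper (Red.bc t A).hom := inferInstanceAs (IsProper (pullback.snd A.hom t))
  haveI : GeometricallyIntegral (Red.bc t A).hom := inferInstanceAs (GeometricallyIntegral (pullback.snd A.hom t))
  have hMt := AmpleDevLib.isInvertible_pb (pullback.fst A.hom t) hM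
  have hadd := AVVanishLib.isAdditive_of_isAlgEquivZero (A := Red.bc t A) (hM := hMt) h
  have hz : bc2 t (clA hD) = 0 := by rw [hbc t hMt, hadd]; abel
  obtain ⟨W, -, hsW, ⟨eW⟩⟩ := exists_clopen_zero hD hax1 hax2 _ (fibre_of_point hD t hz)
  refine ⟨W, hsW, fun y hy L _ _ σ hσ => ?_⟩
  haveI : IsProper (Red.bc σ A).hom := inferInstanceAs (IsProper (pullback.snd A.hom σ))
  haveI : GeometricallyIntegral (Red.bc σ A).hom := inferInstanceAs (GeometricallyIntegral (pullback.snd A.hom σ))
  have hMσ := AmpleDevLib.isInvertible_pb (pullback.fst A.hom σ) hM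
  let g := (p2 σ A).left
  let O := (A ⊗ A).hom ⁻¹ᵁ W
  have hg : Set.range g ⊆ Set.range O.ι := by
    rw [Scheme.Opens.range_ι]
    rintro _ ⟨x, rfl⟩
    show (A ⊗ A).hom (g x) ∈ W
    rw [← Scheme.Hom.comp_apply, Over.w (p2 σ A)]
    show (((Red.bc σ A ⊗ Red.bc σ A).hom ≫ σ) x) ∈ W
    rw [Scheme.Hom.comp_apply]
    have : σ ((Red.bc σ A ⊗ Red.bc σ A).hom x) ∈ ({y} : Set S) := hσ ▸ ⟨_, rfl⟩
    rwa [Set.mem_singleton_iff.1 this]
  have hzW : pullA O.ι (clA hD) = 0 := by
    rw [pullA_clA _ hD, ← clA_one, clA_eq_iff]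
    exact ⟨eW⟩
  have hzσ : bc2 σ (clA hD) = 0 := by
    show pullA g (clA hD) = 0
    rw [← IsOpenImmersion.lift_fac O.ι g hg, ← pullA_comp, hzW, map_zero]
  rw [hbc σ hMσ, sub_sub, sub_eq_zero] at hzσ
  exact isAlgEquivZero_of_isAdditive (A := Red.bc σ A) (hM := hMσ) hzσ

end DualLftLib

end
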